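import Cfsg.Agent.Lib.InvChar.SporData.J3S31.F0
import Cfsg.Agent.Lib.InvChar.SporData.J3S31.F1
import Cfsg.Agent.Lib.InvChar.SporData.J3S31.F2

set_option autoImplicit false
set_option maxRecDepth 100000

namespace CfsgLib.InvChar.Coset.J3S31

theorem facts_ok : ∀ j < 156, cert.chkRun 128 (j * 128) (cert.just.get j) = true := by
  intro j hj
  rcases Nat.lt_or_ge j 64 with h0 | h0
  · obtain ⟨i, rfl⟩ : ∃ i, j = 0 + i := ⟨j - 0, by omega⟩
    exact chkBlocks_get (D := cert) 64 0 chk_facts0 i (by omega)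
  rcases Nat.lt_or_ge j 128 with h1 | h1
  · obtain ⟨i, rfl⟩ : ∃ i, j = 64 + i := ⟨j - 64, by omega⟩
    exact chkBlocks_get (D := cert) 64 64 chk_facts1 i (by omega)
  rcases Nat.lt_or_ge j 156 with h2 | h2
  · obtain ⟨i, rfl⟩ : ∃ i, j = 128 + i := ⟨j - 128, by omega⟩
    exact chkBlocks_get (D := cert) 28 128 chk_facts2 i (by omega)
  omega

theorem goal_ok : cert.chkGoal 19842 56 0x4d81031af04d7f04d7e04d7c04d3e04d5204d1804d2004d2f04d1a04d6804d4d04d2204d3c04d7a04d7b04d6904d7304d6704d6304d6b04d6e0486c04d6404d340484304d330474604d5604d4b045d504d7604d5d046ae04d570468704d7004d6c0453704d7204d5b0450f0449204d6d0463d04d7404d750461d04d7904d80031ae00000031ac031ab031a8 [3, 6, 7, 8] = true := by decide +kernel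

/-- The goal word lies in every subgroup containing the subgroup words. -/
theorem mem {G : Type*} [Group G] (s : ℕ → G) (hs : ∀ x, s x * s x = 1)
    (hR : ∀ r ∈ rels, wprod s r = 1) (H : Subgroup G) (hS : ∀ r ∈ subs, wprod s r ∈ H) :
    wprod s [3, 6, 7, 8] ∈ H :=
  mem_of_goal hs (fun r hr => holds_of_blocks hs hR hS 156 (by decide +kernel) facts_ok r hr) goal_ok

end CfsgLib.InvChar.Coset.J3S31
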